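import Groth.Agent.DivPts.SectionFibre

/-!
# Stalks of scheme theoretic fibres
-/

set_option autoImplicit false

universe u

open CategoryTheory CategoryTheory.Limits AlgebraicGeometry IsLocalRing

namespace Groth.Agent.FlatLocalDepth

variable {X Y : Scheme.{u}}

/-- The stalk of a fibre is the stalk modulo the maximal ideal of the base. -/
theorem nonempty_fibre_stalk_equiv (f : X ⟶ Y) (y : Y) (w : f.fiber y) (x : X)
    (hx : f.fiberι y w = x) :
    Nonempty ((X.presheaf.stalk x ⧸ (maximalIdeal (Y.presheaf.stalk (f x))).map (f.stalkMap x).hom) ≃+*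
      (f.fiber y).presheaf.stalk w) := by
  subst hx
  have hker : RingHom.ker ((f.fiberι y).stalkMap w).hom =
      (maximalIdeal (Y.presheaf.stalk (f (f.fiberι y w)))).map (f.stalkMap (f.fiberι y w)).hom :=
    le_antisymm (DivPts.ker_fiberι_stalkMap_le f y w)
      (Ideal.map_le_iff_le_comap.2 fun a ha => DivPts.stalkMap_fiberι_eq_zero f y w ha)
  exact ⟨(Ideal.quotEquivOfEq hker.symm).trans
    (RingHom.quotientKerEquivOfSurjective ((f.fiberι y).stalkMap_surjective w))⟩

/-- The stalk of the fibre through `x` at `x`. -/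
theorem nonempty_asFiber_stalk_equiv (f : X ⟶ Y) (x : X) :
    Nonempty ((X.presheaf.stalk x ⧸ (maximalIdeal (Y.presheaf.stalk (f x))).map (f.stalkMap x).hom) ≃+*
      (f.fiber (f x)).presheaf.stalk (f.asFiber x)) :=
  nonempty_fibre_stalk_equiv f _ _ x (f.fiberι_asFiber x)

end Groth.Agent.FlatLocalDepth
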