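import Groth.Agent.FlatLocalDepth.Comp
import Groth.Agent.FlatLocalDepth.FibreStalk
import Groth.Prelude.Def_MoreMor

/-!
# Cohen–Macaulay morphisms at a point, in terms of local rings
-/

set_option autoImplicit false

universe u

open CategoryTheory CategoryTheory.Limits AlgebraicGeometry IsLocalRing

namespace Groth.Agent.FlatLocalDepth

variable {X Y Z : Scheme.{u}}

theorem isCMAt_iff (f : X ⟶ Y) (x : X) : MoreMor.IsCMAt f x ↔ (f.stalkMap x).hom.Flat ∧
    LocCoh.IsCohenMacaulayLocalRing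
      (X.presheaf.stalk x ⧸ (maximalIdeal (Y.presheaf.stalk (f x))).map (f.stalkMap x).hom) := by
  obtain ⟨e⟩ := nonempty_asFiber_stalk_equiv f x
  exact and_congr Iff.rfl ⟨fun h => @isCohenMacaulayLocalRing_of_ringEquiv _ _ _ _ h e.symm,
    fun h => @isCohenMacaulayLocalRing_of_ringEquiv _ _ _ _ h e⟩

theorem isNoetherianRing_fibre_quotient (f : X ⟶ Y) (x : X) (hN : IsLocallyNoetherian (f.fiber (f x))) :
    IsNoetherianRing
      (X.presheaf.stalk x ⧸ (maximalIdeal (Y.presheaf.stalk (f x))).map (f.stalkMap x).hom) := by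
  obtain ⟨e⟩ := nonempty_asFiber_stalk_equiv f x
  exact isNoetherianRing_of_ringEquiv _ e.symm

theorem cmFibre_comp_iff (f : X ⟶ Y) (g : Y ⟶ Z) (x : X) (hfl : (f.stalkMap x).hom.Flat)
    (hN : IsLocallyNoetherian ((f ≫ g).fiber (g (f x)))) :
    LocCoh.IsCohenMacaulayLocalRing
        (X.presheaf.stalk x ⧸ (maximalIdeal (Z.presheaf.stalk (g (f x)))).map ((f ≫ g).stalkMap x).hom) ↔
      LocCoh.IsCohenMacaulayLocalRing
          (Y.presheaf.stalk (f x) ⧸ (maximalIdeal (Z.presheaf.stalk (g (f x)))).map (g.stalkMap (f x)).hom) ∧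
        LocCoh.IsCohenMacaulayLocalRing
          (X.presheaf.stalk x ⧸ (maximalIdeal (Y.presheaf.stalk (f x))).map (f.stalkMap x).hom) := by
  letI := (g.stalkMap (f x)).hom.toAlgebra
  letI := (f.stalkMap x).hom.toAlgebra
  letI : Algebra (Z.presheaf.stalk (g (f x))) (X.presheaf.stalk x) := ((f ≫ g).stalkMap x).hom.toAlgebra
  have : IsScalarTower (Z.presheaf.stalk (g (f x))) (Y.presheaf.stalk (f x)) (X.presheaf.stalk x) :=
    IsScalarTower.of_algebraMap_eq fun a => congr($(Scheme.Hom.stalkMap_comp f g x).hom a)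
  have : IsLocalHom (algebraMap (Z.presheaf.stalk (g (f x))) (Y.presheaf.stalk (f x))) :=
    inferInstanceAs (IsLocalHom (g.stalkMap (f x)).hom)
  have : IsLocalHom (algebraMap (Y.presheaf.stalk (f x)) (X.presheaf.stalk x)) :=
    inferInstanceAs (IsLocalHom (f.stalkMap x).hom)
  have : Module.Flat (Y.presheaf.stalk (f x)) (X.presheaf.stalk x) := hfl
  exact isCohenMacaulay_comp_iff (Z.presheaf.stalk (g (f x))) (Y.presheaf.stalk (f x)) (X.presheaf.stalk x)
    (isNoetherianRing_fibre_quotient (f ≫ g) x hN)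

end Groth.Agent.FlatLocalDepth
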