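import Groth.Agent.Depth.CM
import Groth.Agent.CAlgReg.Basic
import Groth.Agent.Depth.SeqDepth
import Groth.Agent.FlatCrit.Local
import Groth.Agent.NormFlat.RegularFlat
import Mathlib.RingTheory.Ideal.KrullsHeightTheorem
import Mathlib.RingTheory.Flat.FaithfullyFlat.Algebra

/-!
# Depth along flat local homomorphisms
-/

set_option autoImplicit false

universe u

open RingTheory.Sequence IsLocalRing Function
open scoped TensorProduct Pointwise

namespace Groth.Agent.FlatLocalDepth

section Module

variable (R : Type u) [CommRing R] [IsLocalRing R] {S : Type u} [CommRing S] [IsNoetherianRing S]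
  [Algebra R S]

local notation "k" => ResidueField R

/-- A sequence regular on the closed fibre is regular, and the quotient stays flat. -/
theorem regular_and_flat_quot (hS : (maximalIdeal R).map (algebraMap R S) ≤ Ideal.jacobson ⊥) :
    ∀ (rs : List S) (N : Type u) [AddCommGroup N] [Module R N] [Module S N] [IsScalarTower R S N]
      [Module.Finite S N] [Module.Flat R N],
      IsWeaklyRegular (N ⊗[R] k) rs →
        IsWeaklyRegular N rs ∧ Module.Flat R (N ⧸ (Ideal.ofList rs • ⊤ : Submodule S N)) := by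
  intro rs
  induction rs with
  | nil =>
    intro N _ _ _ _ _ _ _
    refine ⟨IsWeaklyRegular.nil _ _, ?_⟩
    exact Module.Flat.of_linearEquiv ((Submodule.quotEquivOfEqBot _
      (by rw [Ideal.ofList_nil, Submodule.bot_smul])).restrictScalars R)
  | cons r rs ih =>
    intro N _ _ _ _ _ _ h
    rw [isWeaklyRegular_cons_iff] at h
    let u : N →ₗ[R] N := (LinearMap.lsmul S N r).restrictScalars R
    have hr : ∀ z, u.rTensor k z = r • z := fun z => by
      induction z with
      | zero => simp
      | add x y hx hy => simp [hx, hy]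
      | tmul n a => simp [u, TensorProduct.smul_tmul']
    have hk : Injective (u.lTensor k) :=
      (LinearMap.lTensor_inj_iff_rTensor_inj _ _).mpr fun x y hxy => h.1 (by rwa [hr, hr] at hxy)
    obtain ⟨hu, hflat⟩ := FlatCrit.injective_and_flat_coker (S := S) hS u hk
    have hreg : IsSMulRegular N r := hu
    have : Module.Flat R (QuotSMulTop r N) := by
      have e : LinearMap.range u = (r • ⊤ : Submodule S N).restrictScalars R := by
        ext x
        simp [u, Submodule.mem_smul_pointwise_iff_exists]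
      exact Module.Flat.of_linearEquiv (R := R) (M := N ⧸ LinearMap.range u)
        ((Submodule.quotEquivOfEq _ _ e).trans
          (Submodule.Quotient.restrictScalarsEquiv R (r • ⊤ : Submodule S N))).symm
    let q : N →ₗ[R] QuotSMulTop r N := (Submodule.mkQ (r • ⊤ : Submodule S N)).restrictScalars R
    have hq : Surjective q := fun y => Submodule.mkQ_surjective (r • ⊤ : Submodule S N) y
    let g : N ⊗[R] k →ₗ[S] QuotSMulTop r N ⊗[R] k :=
      TensorProduct.AlgebraTensorModule.map (Submodule.mkQ _) LinearMap.id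
    have hg' : ∀ z, g z = q.rTensor k z := fun z => by
      induction z with
      | zero => rw [map_zero, map_zero]
      | add x y hx hy => rw [map_add, map_add, hx, hy]
      | tmul n a => rfl
    have hg : Surjective g := fun y =>
      let ⟨z, hz⟩ := LinearMap.rTensor_surjective k (g := q) hq y
      ⟨z, (hg' z).trans hz⟩
    have hex : Exact u q := fun x => by
      rw [show q x = (Submodule.mkQ (r • ⊤ : Submodule S N)) x from rfl, Submodule.mkQ_apply, Submodule.Quotient.mk_eq_zero,
        Submodule.mem_smul_pointwise_iff_exists]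
      simp [u]
    have hker : LinearMap.ker g = r • ⊤ := by
      ext z
      rw [LinearMap.mem_ker, hg', Submodule.mem_smul_pointwise_iff_exists]
      refine Iff.trans (rTensor_exact k hex hq z) ?_
      simp [Set.mem_range, hr]
    let ψ : QuotSMulTop r (N ⊗[R] k) ≃ₗ[S] QuotSMulTop r N ⊗[R] k :=
      (Submodule.quotEquivOfEq _ _ hker.symm).trans (g.quotKerEquivOfSurjective hg)
    obtain ⟨h1, h2⟩ := ih (QuotSMulTop r N) ((LinearEquiv.isWeaklyRegular_congr ψ rs).mp h.2)
    refine ⟨h1.cons hreg, ?_⟩
    exact Module.Flat.of_linearEquiv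
      ((Submodule.quotOfListConsSMulTopEquivQuotSMulTopInner N r rs).restrictScalars R)

omit [IsNoetherianRing S] in
theorem finite_fibre (N : Type u) [AddCommGroup N] [Module R N] [Module S N] [IsScalarTower R S N]
    [Module.Finite S N] : Module.Finite S (N ⊗[R] k) := by
  refine Module.Finite.of_surjective
    ({ toFun := fun n => n ⊗ₜ[R] (1 : k), map_add' := fun a b => TensorProduct.add_tmul a b _,
       map_smul' := fun s a => rfl } : N →ₗ[S] N ⊗[R] k) fun z => ?_
  induction z with
  | zero => exact ⟨0, TensorProduct.zero_tmul _ _⟩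
  | add x y hx hy =>
    obtain ⟨a, rfl⟩ := hx
    obtain ⟨b, rfl⟩ := hy
    exact ⟨a + b, TensorProduct.add_tmul a b _⟩
  | tmul n a =>
    obtain ⟨r, rfl⟩ := IsLocalRing.residue_surjective a
    exact ⟨r • n, (TensorProduct.smul_tmul r n _).trans (by rw [← ResidueField.algebraMap_eq, Algebra.smul_def, mul_one])⟩

variable [IsNoetherianRing R] [IsLocalRing S] [IsLocalHom (algebraMap R S)]

/-- If the closed fibre has depth `0`, the depth is the depth of the base. -/
theorem depth_eq_of_depth_fibre_eq_zero (N : Type u) [AddCommGroup N] [Module R N] [Module S N]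
    [IsScalarTower R S N] [Module.Finite S N] [Module.Flat R N] [Nontrivial (N ⊗[R] k)]
    (h0 : LocCoh.depth S (N ⊗[R] k) = 0) : LocCoh.depth S N = LocCoh.depth R R := by
  have hne : maximalIdeal R • (⊤ : Submodule R R) ≠ ⊤ :=
    Depth.smul_top_ne_top_self (maximalIdeal.isMaximal R).ne_top
  obtain ⟨d, hd⟩ := Depth.exists_natCast_eq_idealDepth hne
  obtain ⟨rs, hl, hm, hreg⟩ := (Depth.le_idealDepth_iff_exists hne (n := d)).mp hd.ge
  have hQ := Depth.idealDepth_quot_ofList_add_length rs R hreg hm
  rw [hl] at hQ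
  have hle : Ideal.ofList rs ≤ maximalIdeal R := Depth.ofList_le hm
  have e1 : Ideal.ofList rs • (⊤ : Submodule R R) = Ideal.ofList rs := by
    rw [Ideal.smul_eq_mul]; exact Ideal.mul_top _
  have : Nontrivial (R ⧸ Ideal.ofList rs • (⊤ : Submodule R R)) :=
    Submodule.Quotient.nontrivial_iff.mpr
      (by rw [e1]; exact ne_top_of_le_ne_top (maximalIdeal.isMaximal R).ne_top hle)
  have hQ0 : LocCoh.depth R (R ⧸ Ideal.ofList rs • (⊤ : Submodule R R)) = 0 :=
    (ENat.add_left_injective_of_ne_top (ENat.natCast_ne_top d))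
      (show LocCoh.depth R _ + d = 0 + (d : ℕ∞) by rw [zero_add]; exact hQ.trans hd)
  rw [Depth.depth_eq_zero_iff] at hQ0
  obtain ⟨-, ι, hι⟩ : _ ∧ ∃ ι : k →ₗ[R] R ⧸ Ideal.ofList rs • (⊤ : Submodule R R), Injective ι := by
    obtain ⟨-, x, hx⟩ := isAssociatedPrime_iff.mp (AssociatedPrimes.mem_iff.mp hQ0)
    refine ⟨trivial, Submodule.liftQ _ (LinearMap.toSpanSingleton R _ x) ?_, ?_⟩
    · intro r hr
      rw [hx, Submodule.mem_colon_singleton, Submodule.mem_bot] at hr
      simpa using hr
    · refine LinearMap.ker_eq_bot.mp (Submodule.ker_liftQ_eq_bot _ _ _ fun r hr => ?_)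
      rw [hx, Submodule.mem_colon_singleton, Submodule.mem_bot]
      simpa using hr
  -- transport to `N`
  have hregN : IsWeaklyRegular N (rs.map (algebraMap R S)) :=
    (isWeaklyRegular_map_algebraMap_iff S N rs).mpr (NormFlat.isWeaklyRegular_of_flat rs hreg)
  have hmS : ∀ r ∈ rs.map (algebraMap R S), r ∈ maximalIdeal S := by
    intro r hr
    obtain ⟨a, ha, rfl⟩ := List.mem_map.mp hr
    exact map_nonunit (algebraMap R S) a (hm a ha)
  have hQS := Depth.idealDepth_quot_ofList_add_length (rs.map (algebraMap R S)) N hregN hmS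
  rw [List.length_map, hl] at hQS
  let J : Ideal S := Ideal.ofList (rs.map (algebraMap R S))
  have hJ : (Ideal.ofList rs • ⊤ : Submodule R N) = (J • ⊤ : Submodule S N).restrictScalars R := by
    rw [show J = (Ideal.ofList rs).map (algebraMap R S) from (Ideal.map_ofList _ _).symm]
    rw [Ideal.smul_restrictScalars, Submodule.restrictScalars_top]
  let e : N ⊗[R] (R ⧸ Ideal.ofList rs • (⊤ : Submodule R R)) ≃ₗ[R] N ⧸ (J • ⊤ : Submodule S N) :=
    (TensorProduct.congr (LinearEquiv.refl R N) (Submodule.quotEquivOfEq _ _ e1)).trans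
      ((TensorProduct.tensorQuotEquivQuotSMul N (Ideal.ofList rs)).trans
        ((Submodule.quotEquivOfEq _ _ hJ).trans (Submodule.Quotient.restrictScalarsEquiv R _)))
  have he : ∀ (n : N) (r : R), e (n ⊗ₜ Submodule.Quotient.mk r) = Submodule.Quotient.mk (r • n) :=
    fun n r => by
    simp only [e, LinearEquiv.trans_apply, TensorProduct.congr_tmul, LinearEquiv.refl_apply, Submodule.quotEquivOfEq_mk]
    erw [TensorProduct.tensorQuotEquivQuotSMul_tmul_mk, Submodule.quotEquivOfEq_mk]
    · rfl
    · rfl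
  let j₀ : N ⊗[R] k →ₗ[R] N ⧸ (J • ⊤ : Submodule S N) := e.toLinearMap ∘ₗ ι.lTensor N
  have hj₀ : ∀ (s : S) (z : N ⊗[R] k), j₀ (s • z) = s • j₀ z := fun s z => by
    induction z with
    | zero => rw [smul_zero, map_zero, smul_zero]
    | add x y hx hy => rw [smul_add, map_add, map_add, smul_add, hx, hy]
    | tmul n a =>
      obtain ⟨r, hr⟩ := Submodule.Quotient.mk_surjective _ (ι a)
      show e ((s • n) ⊗ₜ ι a) = s • e (n ⊗ₜ ι a)
      rw [← hr, he, he, ← Submodule.Quotient.mk_smul, smul_comm]
  let j : N ⊗[R] k →ₗ[S] N ⧸ (J • ⊤ : Submodule S N) :=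
    { toFun := j₀, map_add' := map_add j₀, map_smul' := hj₀ }
  have hj : Injective j := e.injective.comp
    (Module.Flat.lTensor_preserves_injective_linearMap (M := N) ι hι)
  have : Nontrivial (N ⧸ (J • ⊤ : Submodule S N)) := hj.nontrivial
  have hN0 : LocCoh.depth S (N ⧸ (J • ⊤ : Submodule S N)) = 0 := by
    have := finite_fibre R (S := S) N
    rw [Depth.depth_eq_zero_iff] at h0 ⊢
    exact associatedPrimes.subset_of_injective hj h0
  change LocCoh.idealDepth (maximalIdeal S) N = LocCoh.idealDepth (maximalIdeal R) R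
  rw [← hQS, ← hd]
  change LocCoh.depth S _ + _ = _
  rw [hN0, zero_add]

end Module

variable (R : Type u) [CommRing R] [IsLocalRing R] [IsNoetherianRing R] (S : Type u) [CommRing S]
  [IsLocalRing S] [IsNoetherianRing S] [Algebra R S] [IsLocalHom (algebraMap R S)] [Module.Flat R S]

theorem map_maximalIdeal_le : (maximalIdeal R).map (algebraMap R S) ≤ maximalIdeal S :=
  ((local_hom_TFAE (algebraMap R S)).out 0 2 rfl rfl).1 inferInstance

theorem nontrivial_fibre : Nontrivial (S ⧸ (maximalIdeal R).map (algebraMap R S)) :=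
  Ideal.Quotient.nontrivial_iff.2
    (ne_top_of_le_ne_top (maximalIdeal.isMaximal S).ne_top (map_maximalIdeal_le R S))

theorem depth_eq_add : LocCoh.depth S S = LocCoh.depth R R +
    LocCoh.depth S (S ⧸ (maximalIdeal R).map (algebraMap R S)) := by
  have := nontrivial_fibre R S
  set F := S ⧸ (maximalIdeal R).map (algebraMap R S) with hF
  have : IsLocalRing F := IsLocalRing.of_surjective' (Ideal.Quotient.mk _) Ideal.Quotient.mk_surjective
  let e : S ⊗[R] (ResidueField R) ≃ₗ[S] F :=
    ((Algebra.TensorProduct.quotIdealMapEquivTensorQuot S (maximalIdeal R)).symm).toLinearEquiv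
  have : Nontrivial (S ⊗[R] (ResidueField R)) := e.toEquiv.nontrivial
  rw [← Depth.depth_congr e]
  have hne := Depth.maximalIdeal_smul_top_ne_top (R := S) (M := S ⊗[R] (ResidueField R))
  obtain ⟨d, hd⟩ := Depth.exists_natCast_eq_idealDepth hne
  obtain ⟨rs, hl, hm, hreg⟩ := (Depth.le_idealDepth_iff_exists hne (n := d)).mp hd.ge
  have hjac : (maximalIdeal R).map (algebraMap R S) ≤ Ideal.jacobson ⊥ :=
    (map_maximalIdeal_le R S).trans (IsLocalRing.maximalIdeal_le_jacobson _)
  obtain ⟨hregS, hflat⟩ := regular_and_flat_quot R hjac rs S hreg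
  have h1 := Depth.idealDepth_quot_ofList_add_length rs S hregS hm
  have h2 := Depth.idealDepth_quot_ofList_add_length rs (S ⊗[R] (ResidueField R)) hreg hm
  rw [hl] at h1 h2
  set N := S ⧸ (Ideal.ofList rs • ⊤ : Submodule S S)
  let g : S ⊗[R] ResidueField R →ₗ[S] N ⊗[R] ResidueField R :=
    TensorProduct.AlgebraTensorModule.map (Submodule.mkQ _) LinearMap.id
  let P : Submodule S S := Ideal.ofList rs • ⊤
  let i : P →ₗ[R] S := P.subtype.restrictScalars R
  let q : S →ₗ[R] N := P.mkQ.restrictScalars R
  have hq : Surjective q := fun y => Submodule.mkQ_surjective P y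
  have hg' : ∀ z, g z = q.rTensor (ResidueField R) z := fun z => by
    induction z with
    | zero => rw [map_zero, map_zero]
    | add x y hx hy => rw [map_add, map_add, hx, hy]
    | tmul n a => rfl
  have hg : Surjective g := fun y =>
    let ⟨z, hz⟩ := LinearMap.rTensor_surjective (ResidueField R) (g := q) hq y
    ⟨z, (hg' z).trans hz⟩
  have hiq : Exact i q := fun x => LinearMap.exact_subtype_mkQ P x
  have hker : LinearMap.ker g = Ideal.ofList rs • ⊤ := by
    apply le_antisymm
    · intro z hz
      rw [LinearMap.mem_ker, hg'] at hz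
      obtain ⟨y, rfl⟩ := (rTensor_exact (ResidueField R) hiq hq z).mp hz
      clear hz
      induction y with
      | zero => rw [map_zero]; exact zero_mem _
      | add x y hx hy => rw [map_add]; exact add_mem hx hy
      | tmul x a =>
        have hx : (x : S) ∈ Ideal.ofList rs := by
          have := x.2
          simpa [P, Ideal.smul_eq_mul, Ideal.mul_top] using this
        have : i.rTensor (ResidueField R) (x ⊗ₜ[R] a) = (x : S) • ((1 : S) ⊗ₜ[R] a) := by
          rw [LinearMap.rTensor_tmul, TensorProduct.smul_tmul', smul_eq_mul, mul_one]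
          rfl
        rw [this]
        exact Submodule.smul_mem_smul hx trivial
    · rw [Submodule.smul_le]
      intro r hr z _
      rw [LinearMap.mem_ker, map_smul]
      induction g z with
      | zero => simp
      | add x y hx hy => simp [hx, hy]
      | tmul n a =>
        obtain ⟨n, rfl⟩ := Submodule.Quotient.mk_surjective _ n
        rw [TensorProduct.smul_tmul', ← Submodule.Quotient.mk_smul,
          (Submodule.Quotient.mk_eq_zero _).2 (Submodule.smul_mem_smul hr (Submodule.mem_top (x := n))),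
          TensorProduct.zero_tmul]
  let ψ := (Submodule.quotEquivOfEq _ _ hker.symm).trans (g.quotKerEquivOfSurjective hg)
  have : Nontrivial ((S ⊗[R] ResidueField R) ⧸ (Ideal.ofList rs • ⊤ : Submodule S (S ⊗[R] ResidueField R))) :=
    Submodule.Quotient.nontrivial_iff.2 (ne_top_of_le_ne_top hne (Submodule.smul_mono_left (Depth.ofList_le hm)))
  have : Nontrivial (N ⊗[R] ResidueField R) := ψ.symm.toEquiv.nontrivial
  have h0 : LocCoh.depth S (N ⊗[R] ResidueField R) = 0 := by
    rw [← Depth.depth_congr ψ]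
    exact (ENat.add_left_injective_of_ne_top (ENat.natCast_ne_top d))
      (show LocCoh.depth S _ + d = 0 + (d : ℕ∞) by rw [zero_add]; exact h2.trans hd)
  change LocCoh.idealDepth (maximalIdeal S) S = _ + LocCoh.idealDepth (maximalIdeal S) _
  rw [← h1, ← hd]
  congr 1
  exact depth_eq_of_depth_fibre_eq_zero R N h0

theorem ringKrullDim_eq_add : ringKrullDim S = ringKrullDim R +
    ringKrullDim (S ⧸ (maximalIdeal R).map (algebraMap R S)) := by
  have := nontrivial_fibre R S
  have : IsLocalRing (S ⧸ (maximalIdeal R).map (algebraMap R S)) :=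
    IsLocalRing.of_surjective' (Ideal.Quotient.mk _) Ideal.Quotient.mk_surjective
  have hlo : (maximalIdeal S).LiesOver (maximalIdeal R) :=
    ⟨((local_hom_TFAE (algebraMap R S)).out 0 4 rfl rfl |>.1 inferInstance).symm⟩
  rw [← IsLocalRing.maximalIdeal_height_eq_ringKrullDim, ← IsLocalRing.maximalIdeal_height_eq_ringKrullDim,
    ← IsLocalRing.maximalIdeal_height_eq_ringKrullDim, ← WithBot.coe_add,
    ← IsLocalRing.map_maximalIdeal_of_surjective
      (Ideal.Quotient.mk ((maximalIdeal R).map (algebraMap R S))) Ideal.Quotient.mk_surjective]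
  exact congrArg _ (Ideal.height_eq_height_add_of_liesOver_of_hasGoingDown (maximalIdeal R) (maximalIdeal S))

/-- A flat local algebra is Cohen–Macaulay iff the base and the closed fibre are. -/
theorem isCohenMacaulayLocalRing_iff : LocCoh.IsCohenMacaulayLocalRing S ↔
    LocCoh.IsCohenMacaulayLocalRing R ∧
      LocCoh.IsCohenMacaulayLocalRing (S ⧸ (maximalIdeal R).map (algebraMap R S)) := by
  have := nontrivial_fibre R S
  set F := S ⧸ (maximalIdeal R).map (algebraMap R S)
  have : IsLocalRing F := IsLocalRing.of_surjective' (Ideal.Quotient.mk _) Ideal.Quotient.mk_surjective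
  rw [Depth.isCohenMacaulayLocalRing_iff, Depth.isCohenMacaulayLocalRing_iff,
    Depth.isCohenMacaulayLocalRing_iff, ringKrullDim_eq_add R S, depth_eq_add R S]
  simp only [Depth.depth_eq_of_surjective (R := S) (S := F) (M := F) Ideal.Quotient.mk_surjective, F]
  have hr := Depth.depth_le_ringKrullDim (R := R) (M := R)
  have hf := Depth.depth_le_ringKrullDim (R := F) (M := F)
  rw [Depth.depth_eq_of_surjective (R := S) (S := F) (M := F) Ideal.Quotient.mk_surjective] at hf
  obtain ⟨a, ha⟩ := CAlgReg.exists_dim (R := R)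
  obtain ⟨b, hb⟩ := CAlgReg.exists_dim (R := F)
  rw [ha] at hr ⊢
  rw [hb] at hf ⊢
  change _ ≤ ((a : ℕ∞) : WithBot ℕ∞) at hr
  change _ ≤ ((b : ℕ∞) : WithBot ℕ∞) at hf
  rw [WithBot.coe_le_coe] at hr hf
  obtain ⟨p, hp⟩ := WithTop.ne_top_iff_exists.mp (ne_top_of_le_ne_top (ENat.natCast_ne_top a) hr)
  obtain ⟨q, hq⟩ := WithTop.ne_top_iff_exists.mp (ne_top_of_le_ne_top (ENat.natCast_ne_top b) hf)
  rw [← hp] at hr ⊢
  rw [← hq] at hf ⊢
  change ((p : ℕ) : ℕ∞) ≤ _ at hr
  change ((q : ℕ) : ℕ∞) ≤ _ at hf
  rw [Nat.cast_le] at hr hf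
  change ((a : ℕ∞) : WithBot ℕ∞) + ((b : ℕ∞) : WithBot ℕ∞) = (((p : ℕ∞) + (q : ℕ∞) : ℕ∞) : WithBot ℕ∞) ↔
    ((a : ℕ∞) : WithBot ℕ∞) = ((p : ℕ∞) : WithBot ℕ∞) ∧ ((b : ℕ∞) : WithBot ℕ∞) = ((q : ℕ∞) : WithBot ℕ∞)
  rw [← WithBot.coe_add, WithBot.coe_inj, WithBot.coe_inj, WithBot.coe_inj]
  norm_cast
  omega

end Groth.Agent.FlatLocalDepth
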