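import Groth.Agent.Depth.CM
import Groth.Agent.Depth.SeqDepth
import Groth.Agent.CAlgReg.Basic
import Groth.Agent.NormFlat.RegularFlat

/-!
# Miracle flatness
-/

set_option autoImplicit false

universe u

open IsLocalRing RingTheory.Sequence
open scoped TensorProduct

namespace Groth.Agent.FlatLocalDepth

theorem miracle_flatness {R S : Type u} [CommRing R] [CommRing S] [IsRegularLocalRing R]
    [LocCoh.IsCohenMacaulayLocalRing S] [Algebra R S] [IsLocalHom (algebraMap R S)]
    (hdim : ringKrullDim S = ringKrullDim R +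
      ringKrullDim (S ⧸ (maximalIdeal R).map (algebraMap R S))) :
    Module.Flat R S := by
  classical
  obtain ⟨T, hTc, hT⟩ := Submodule.FG.exists_span_finset_card_eq_spanFinrank
    (maximalIdeal R).fg_of_isNoetherianRing
  obtain ⟨d, hd⟩ := CAlgReg.exists_dim (R := R)
  have hspan : Ideal.ofList T.toList = maximalIdeal R := by
    rw [show Ideal.ofList T.toList = Ideal.span (T : Set R) by
      rw [Ideal.ofList]; congr 1; ext; simp]
    exact hT
  have hlen : T.toList.length = d := by
    rw [Finset.length_toList, hTc, CAlgReg.spanFinrank_eq_of_dim hd]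
  have hregR : IsWeaklyRegular R T.toList :=
    (CAlgReg.isRegular_generators hd T.toList hlen hspan).toIsWeaklyRegular
  have hle : (maximalIdeal R).map (algebraMap R S) ≤ maximalIdeal S :=
    ((local_hom_TFAE (algebraMap R S)).out 0 2 rfl rfl).1 inferInstance
  have hmem : ∀ x ∈ T.toList.map (algebraMap R S), x ∈ maximalIdeal S := by
    intro x hx
    obtain ⟨a, ha, rfl⟩ := List.mem_map.1 hx
    exact hle (Ideal.mem_map_of_mem _ (hspan ▸ Ideal.subset_span ha))
  have hJ : Ideal.ofList (T.toList.map (algebraMap R S)) = (maximalIdeal R).map (algebraMap R S) := by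
    rw [← Ideal.map_ofList, hspan]
  have h := Depth.supportDim_eq_quotient_add_idealDepth S (Depth.isCohenMacaulayModule_self (R := S))
    (hI := hle)
  rw [Module.supportDim_self_eq_ringKrullDim, hdim, smul_eq_mul, Ideal.mul_top,
    Module.supportDim_quotient_eq_ringKrullDim, hd, add_comm] at h
  have : Nontrivial (S ⧸ (maximalIdeal R).map (algebraMap R S)) :=
    Ideal.Quotient.nontrivial_iff.2 (ne_top_of_le_ne_top (maximalIdeal.isMaximal S).ne_top hle)
  have : IsLocalRing (S ⧸ (maximalIdeal R).map (algebraMap R S)) :=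
    IsLocalRing.of_surjective' (Ideal.Quotient.mk _) Ideal.Quotient.mk_surjective
  obtain ⟨b, hb⟩ := CAlgReg.exists_dim (R := S ⧸ (maximalIdeal R).map (algebraMap R S))
  rw [hb] at h
  have hreg : IsWeaklyRegular S (T.toList.map (algebraMap R S)) := by
    refine (Depth.idealDepth_ofList_eq_length_iff _ hmem).mp ?_
    rw [List.length_map, hlen, hJ]
    obtain ⟨a, ha⟩ := Depth.exists_natCast_eq_idealDepth (M := S)
      (Depth.smul_top_ne_top_self (ne_top_of_le_ne_top (maximalIdeal.isMaximal S).ne_top hle))
    rw [ha] at h ⊢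
    norm_cast at h ⊢
    omega
  have hregS : IsWeaklyRegular S T.toList := (isWeaklyRegular_map_algebraMap_iff S S _).1 hreg
  have h1 := (FlatCrit.torZero_quotient_iff (Ideal.ofList T.toList)).mp (NormFlat.torZero_ofList _ hregS)
  rw [hspan] at h1
  have : Module.Flat (R ⧸ maximalIdeal R) ((R ⧸ maximalIdeal R) ⊗[R] S) :=
    inferInstanceAs (Module.Flat (ResidueField R) (ResidueField R ⊗[R] S))
  exact FlatCrit.flat_of_le_jacobson (S := S) (hle.trans (IsLocalRing.maximalIdeal_le_jacobson _)) h1

end Groth.Agent.FlatLocalDepth
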