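import Groth.Agent.FlatLocalDepth.Basic
import Mathlib.RingTheory.TensorProduct.Quotient
import Mathlib.RingTheory.Flat.FaithfullyFlat.Algebra

/-!
# Cohen–Macaulay fibres of a composition of local homomorphisms
-/

set_option autoImplicit false

universe u

open IsLocalRing
open scoped TensorProduct

namespace Groth.Agent.FlatLocalDepth

theorem isCohenMacaulayLocalRing_of_ringEquiv {A B : Type u} [CommRing A] [CommRing B]
    [hA : LocCoh.IsCohenMacaulayLocalRing A] (e : A ≃+* B) : LocCoh.IsCohenMacaulayLocalRing B := by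
  have : IsNoetherianRing B := isNoetherianRing_of_ringEquiv A e
  have : IsLocalRing B := e.isLocalRing
  rw [Depth.isCohenMacaulayLocalRing_iff]
  letI := e.toRingHom.toAlgebra
  rw [Depth.depth_eq_of_surjective (R := A) (S := B) (M := B) e.surjective,
    ← Depth.depth_congr (LinearEquiv.ofBijective (Algebra.linearMap A B) e.bijective),
    ← ringKrullDim_eq_of_ringEquiv e]
  exact Depth.ringKrullDim_eq_depth

theorem isNoetherianRing_of_faithfullyFlat (A B : Type u) [CommRing A] [CommRing B] [Algebra A B]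
    [Module.FaithfullyFlat A B] [IsNoetherianRing B] : IsNoetherianRing A := by
  have hm : StrictMono (fun I : Ideal A => I.map (algebraMap A B)) := fun I J h =>
    lt_of_le_not_ge (Ideal.map_mono h.le) fun h' => h.not_ge (by
      have := Ideal.comap_mono (f := algebraMap A B) h'
      rwa [Ideal.comap_map_eq_self_of_faithfullyFlat, Ideal.comap_map_eq_self_of_faithfullyFlat] at this)
  exact isNoetherian_iff'.mpr hm.wellFoundedGT

theorem isLocalRing_quotient {A : Type u} [CommRing A] [IsLocalRing A] {I : Ideal A}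
    (h : I ≤ maximalIdeal A) : IsLocalRing (A ⧸ I) :=
  have : Nontrivial (A ⧸ I) :=
    Ideal.Quotient.nontrivial_iff.2 (ne_top_of_le_ne_top (maximalIdeal.isMaximal A).ne_top h)
  IsLocalRing.of_surjective' (Ideal.Quotient.mk I) Ideal.Quotient.mk_surjective

theorem isCohenMacaulay_comp_iff (A B C : Type u) [CommRing A] [CommRing B] [CommRing C]
    [IsLocalRing A] [IsLocalRing B] [IsLocalRing C] [Algebra A B] [Algebra B C] [Algebra A C]
    [IsScalarTower A B C] [IsLocalHom (algebraMap A B)] [IsLocalHom (algebraMap B C)]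
    [Module.Flat B C] (hN : IsNoetherianRing (C ⧸ (maximalIdeal A).map (algebraMap A C))) :
    LocCoh.IsCohenMacaulayLocalRing (C ⧸ (maximalIdeal A).map (algebraMap A C)) ↔
      LocCoh.IsCohenMacaulayLocalRing (B ⧸ (maximalIdeal A).map (algebraMap A B)) ∧
        LocCoh.IsCohenMacaulayLocalRing (C ⧸ (maximalIdeal B).map (algebraMap B C)) := by
  let I := (maximalIdeal A).map (algebraMap A B)
  let J := I.map (algebraMap B C)
  have hJ : (maximalIdeal A).map (algebraMap A C) = J := by
    rw [IsScalarTower.algebraMap_eq A B C, ← Ideal.map_map]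
  have hI : I ≤ maximalIdeal B := ((local_hom_TFAE (algebraMap A B)).out 0 2 rfl rfl).1 inferInstance
  have hIC : J ≤ maximalIdeal C :=
    (Ideal.map_mono hI).trans (((local_hom_TFAE (algebraMap B C)).out 0 2 rfl rfl).1 inferInstance)
  have : IsLocalRing (B ⧸ I) := isLocalRing_quotient hI
  have : IsLocalRing (C ⧸ J) := isLocalRing_quotient hIC
  have : IsNoetherianRing (C ⧸ J) := isNoetherianRing_of_ringEquiv _ (Ideal.quotEquivOfEq hJ)
  letI : Algebra (B ⧸ I) (C ⧸ J) :=
    (Ideal.quotientMap J (algebraMap B C) Ideal.le_comap_map).toAlgebra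
  have : IsScalarTower B (B ⧸ I) (C ⧸ J) := IsScalarTower.of_algebraMap_eq fun b => rfl
  have : Module.Flat (B ⧸ I) (C ⧸ J) := by
    let e1 : (B ⧸ I) ⊗[B] C ≃ₗ[B] C ⧸ J :=
      (TensorProduct.comm B _ _).trans
        ((Algebra.TensorProduct.quotIdealMapEquivTensorQuot C I).symm.toLinearEquiv.restrictScalars B)
    exact Module.Flat.of_linearEquiv
      (e1.extendScalarsOfSurjective (S := B ⧸ I) Ideal.Quotient.mk_surjective).symm
  have : IsLocalHom (algebraMap (B ⧸ I) (C ⧸ J)) := ⟨fun x hx => by
    obtain ⟨b, rfl⟩ := Ideal.Quotient.mk_surjective x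
    refine IsUnit.map _ (of_not_not fun hb => ?_)
    have hb' : algebraMap B C b ∈ maximalIdeal C :=
      (((local_hom_TFAE (algebraMap B C)).out 0 2 rfl rfl).1 inferInstance) (Ideal.mem_map_of_mem _ hb)
    have hm := Ideal.mem_map_of_mem (Ideal.Quotient.mk J) hb'
    have : IsLocalHom (Ideal.Quotient.mk J) := IsLocalHom.of_surjective _ Ideal.Quotient.mk_surjective
    rw [IsLocalRing.map_maximalIdeal_of_surjective _ Ideal.Quotient.mk_surjective] at hm
    exact (IsLocalRing.mem_maximalIdeal _).1 hm hx⟩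
  have : Module.FaithfullyFlat (B ⧸ I) (C ⧸ J) := Module.FaithfullyFlat.of_flat_of_isLocalHom
  have := isNoetherianRing_of_faithfullyFlat (B ⧸ I) (C ⧸ J)
  have key := isCohenMacaulayLocalRing_iff (B ⧸ I) (C ⧸ J)
  have hK : (maximalIdeal B).map (algebraMap B C) ≥ J := Ideal.map_mono hI
  have e : ((C ⧸ J) ⧸ (maximalIdeal (B ⧸ I)).map (algebraMap (B ⧸ I) (C ⧸ J))) ≃+*
      C ⧸ (maximalIdeal B).map (algebraMap B C) := by
    have : IsLocalHom (Ideal.Quotient.mk I) := IsLocalHom.of_surjective _ Ideal.Quotient.mk_surjective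
    refine (Ideal.quotEquivOfEq ?_).trans (DoubleQuot.quotQuotEquivQuotOfLE hK)
    rw [← IsLocalRing.map_maximalIdeal_of_surjective _ (Ideal.Quotient.mk_surjective (I := I)),
      Ideal.map_map, Ideal.map_map]
    rfl
  rw [show ((maximalIdeal A).map (algebraMap A C)) = J from hJ, key]
  exact and_congr Iff.rfl ⟨fun h => @isCohenMacaulayLocalRing_of_ringEquiv _ _ _ _ h e,
    fun h => @isCohenMacaulayLocalRing_of_ringEquiv _ _ _ _ h e.symm⟩

end Groth.Agent.FlatLocalDepth
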