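import Groth.Agent.FlatLocalDepth.Basic
import Groth.Agent.FlatLocalDepth.FibreStalk
import Groth.Prelude.Def_CInt

/-!
# Depth of a flat morphism is at least the depth of the fibre
-/

set_option autoImplicit false
set_option linter.all false

universe u

open CategoryTheory CategoryTheory.Limits AlgebraicGeometry IsLocalRing

namespace Groth.Agent.FlatLocalDepth

variable {X S : Scheme.{u}} [IsLocallyNoetherian X] [IsLocallyNoetherian S] (f : X ⟶ S)

theorem isNoetherianRing_fiberStalk (x : X) : IsNoetherianRing ↑(CInt.fiberStalk f x) := by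
  obtain ⟨e⟩ := nonempty_asFiber_stalk_equiv f x
  exact isNoetherianRing_of_ringEquiv _ e

theorem depth_fiberStalk_le [Flat f] (x : X) :
    LocCoh.depth ↑(CInt.fiberStalk f x) ↑(CInt.fiberStalk f x) ≤
      LocCoh.depth ↑(X.presheaf.stalk x) ↑(X.presheaf.stalk x) := by
  letI : Algebra (S.presheaf.stalk (f x)) (X.presheaf.stalk x) := (f.stalkMap x).hom.toAlgebra
  haveI : Module.Flat (S.presheaf.stalk (f x)) (X.presheaf.stalk x) := Flat.stalkMap f x
  haveI : IsLocalHom (algebraMap (S.presheaf.stalk (f x)) (X.presheaf.stalk x)) :=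
    inferInstanceAs (IsLocalHom (f.stalkMap x).hom)
  haveI := isNoetherianRing_fiberStalk f x
  obtain ⟨e⟩ := nonempty_asFiber_stalk_equiv f x
  let φ : X.presheaf.stalk x →+* CInt.fiberStalk f x := e.toRingHom.comp (Ideal.Quotient.mk _)
  letI : Algebra (X.presheaf.stalk x) (CInt.fiberStalk f x) := φ.toAlgebra
  have hφ : Function.Surjective (algebraMap (X.presheaf.stalk x) (CInt.fiberStalk f x)) :=
    e.surjective.comp Ideal.Quotient.mk_surjective
  let l : (X.presheaf.stalk x ⧸ (maximalIdeal (S.presheaf.stalk (f x))).map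
      (algebraMap (S.presheaf.stalk (f x)) (X.presheaf.stalk x))) ≃ₗ[X.presheaf.stalk x] CInt.fiberStalk f x :=
    { e.toAddEquiv with
      map_smul' := fun r y => by
        obtain ⟨y, rfl⟩ := Ideal.Quotient.mk_surjective y
        show e (Ideal.Quotient.mk _ (r * y)) = φ r * e (Ideal.Quotient.mk _ y)
        rw [map_mul, map_mul]
        rfl }
  rw [Depth.depth_eq_of_surjective (R := X.presheaf.stalk x) (S := CInt.fiberStalk f x)
    (M := CInt.fiberStalk f x) hφ, ← Depth.depth_congr l,
    depth_eq_add (S.presheaf.stalk (f x)) (X.presheaf.stalk x)]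
  exact le_add_self

theorem ringKrullDim_fiberStalk_le_depth [Flat f] (x : X)
    (hCM : LocCoh.IsCohenMacaulayLocalRing ↑(CInt.fiberStalk f x)) :
    ringKrullDim ↑(CInt.fiberStalk f x) ≤
      ((LocCoh.depth ↑(X.presheaf.stalk x) ↑(X.presheaf.stalk x) : ℕ∞) : WithBot ℕ∞) := by
  haveI := isNoetherianRing_fiberStalk f x
  rw [Depth.isCohenMacaulayLocalRing_iff.1 hCM]
  exact WithBot.coe_le_coe.2 (depth_fiberStalk_le f x)

end Groth.Agent.FlatLocalDepth
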