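import Groth.Agent.FlatLocalDepth.FibreDepth
import Mathlib.RingTheory.TensorProduct.Quotient
import Mathlib.RingTheory.Flat.FaithfullyFlat.Algebra

/-!
# Fibre dimensions of a composition with a flat morphism
-/

set_option autoImplicit false
set_option linter.all false

universe u

open CategoryTheory AlgebraicGeometry IsLocalRing
open scoped TensorProduct

namespace Groth.Agent.FlatLocalDepth

theorem ringKrullDim_quotient_le (A B C : Type u) [CommRing A] [CommRing B] [CommRing C]
    [IsLocalRing A] [IsLocalRing B] [IsLocalRing C] [IsNoetherianRing B] [IsNoetherianRing C]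
    [Algebra A B] [Algebra B C] [Algebra A C]
    [IsScalarTower A B C] [IsLocalHom (algebraMap A B)] [IsLocalHom (algebraMap B C)] [Module.Flat B C] :
    ringKrullDim (B ⧸ (maximalIdeal A).map (algebraMap A B)) ≤
      ringKrullDim (C ⧸ (maximalIdeal A).map (algebraMap A C)) := by
  let I := (maximalIdeal A).map (algebraMap A B)
  let J := I.map (algebraMap B C)
  have hJ : (maximalIdeal A).map (algebraMap A C) = J := by
    rw [IsScalarTower.algebraMap_eq A B C, ← Ideal.map_map]
  have hI : I ≤ maximalIdeal B := ((local_hom_TFAE (algebraMap A B)).out 0 2 rfl rfl).1 inferInstance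
  have hIC : J ≤ maximalIdeal C :=
    (Ideal.map_mono hI).trans (((local_hom_TFAE (algebraMap B C)).out 0 2 rfl rfl).1 inferInstance)
  have : Nontrivial (B ⧸ I) :=
    Ideal.Quotient.nontrivial_iff.2 (ne_top_of_le_ne_top (maximalIdeal.isMaximal B).ne_top hI)
  have : Nontrivial (C ⧸ J) :=
    Ideal.Quotient.nontrivial_iff.2 (ne_top_of_le_ne_top (maximalIdeal.isMaximal C).ne_top hIC)
  have : IsLocalRing (B ⧸ I) := IsLocalRing.of_surjective' (Ideal.Quotient.mk I) Ideal.Quotient.mk_surjective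
  have : IsLocalRing (C ⧸ J) := IsLocalRing.of_surjective' (Ideal.Quotient.mk J) Ideal.Quotient.mk_surjective
  letI : Algebra (B ⧸ I) (C ⧸ J) :=
    (Ideal.quotientMap J (algebraMap B C) Ideal.le_comap_map).toAlgebra
  have : IsScalarTower B (B ⧸ I) (C ⧸ J) := IsScalarTower.of_algebraMap_eq fun b => rfl
  have : Module.Flat (B ⧸ I) (C ⧸ J) := by
    let e1 : (B ⧸ I) ⊗[B] C ≃ₗ[B] C ⧸ J :=
      (TensorProduct.comm B _ _).trans
        ((Algebra.TensorProduct.quotIdealMapEquivTensorQuot C I).symm.toLinearEquiv.restrictScalars B)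
    exact Module.Flat.of_linearEquiv
      (e1.extendScalarsOfSurjective (S := B ⧸ I) Ideal.Quotient.mk_surjective).symm
  have : IsLocalHom (algebraMap (B ⧸ I) (C ⧸ J)) := ⟨fun x hx => by
    obtain ⟨b, rfl⟩ := Ideal.Quotient.mk_surjective x
    refine IsUnit.map _ (of_not_not fun hb => ?_)
    have hb' : algebraMap B C b ∈ maximalIdeal C :=
      (((local_hom_TFAE (algebraMap B C)).out 0 2 rfl rfl).1 inferInstance) (Ideal.mem_map_of_mem _ hb)
    have hm := Ideal.mem_map_of_mem (Ideal.Quotient.mk J) hb'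
    have : IsLocalHom (Ideal.Quotient.mk J) := IsLocalHom.of_surjective _ Ideal.Quotient.mk_surjective
    rw [IsLocalRing.map_maximalIdeal_of_surjective _ Ideal.Quotient.mk_surjective] at hm
    exact (IsLocalRing.mem_maximalIdeal _).1 hm hx⟩
  rw [hJ, ringKrullDim_eq_add (B ⧸ I) (C ⧸ J)]
  have hn := nontrivial_fibre (B ⧸ I) (C ⧸ J)
  refine le_add_of_nonneg_right ?_
  exact ringKrullDim_nonneg_of_nontrivial

theorem ringKrullDim_fiberStalk_comp_le {X X' S : Scheme.{u}} [IsLocallyNoetherian X]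
    [IsLocallyNoetherian X'] (f : X ⟶ S) (g : X' ⟶ X) [Flat g] (y : X') :
    ringKrullDim ↑(CInt.fiberStalk f (g y)) ≤ ringKrullDim ↑(CInt.fiberStalk (g ≫ f) y) := by
  letI := (f.stalkMap (g y)).hom.toAlgebra
  letI := (g.stalkMap y).hom.toAlgebra
  letI : Algebra (S.presheaf.stalk (f (g y))) (X'.presheaf.stalk y) := ((g ≫ f).stalkMap y).hom.toAlgebra
  have : IsScalarTower (S.presheaf.stalk (f (g y))) (X.presheaf.stalk (g y)) (X'.presheaf.stalk y) :=
    IsScalarTower.of_algebraMap_eq fun a => congr($(Scheme.Hom.stalkMap_comp g f y).hom a)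
  have : IsLocalHom (algebraMap (S.presheaf.stalk (f (g y))) (X.presheaf.stalk (g y))) :=
    inferInstanceAs (IsLocalHom (f.stalkMap (g y)).hom)
  have : IsLocalHom (algebraMap (X.presheaf.stalk (g y)) (X'.presheaf.stalk y)) :=
    inferInstanceAs (IsLocalHom (g.stalkMap y).hom)
  have : Module.Flat (X.presheaf.stalk (g y)) (X'.presheaf.stalk y) := Flat.stalkMap g y
  obtain ⟨e₁⟩ := nonempty_asFiber_stalk_equiv f (g y)
  obtain ⟨e₂⟩ := nonempty_asFiber_stalk_equiv (g ≫ f) y
  rw [← ringKrullDim_eq_of_ringEquiv e₁, ← ringKrullDim_eq_of_ringEquiv e₂]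
  exact ringKrullDim_quotient_le (S.presheaf.stalk (f (g y))) (X.presheaf.stalk (g y)) (X'.presheaf.stalk y)

end Groth.Agent.FlatLocalDepth
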