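import Groth.Agent.FlatLocalDepth.FibreDim
import Mathlib.RingTheory.TensorProduct.Quotient
import Mathlib.RingTheory.Flat.FaithfullyFlat.Algebra

/-!
# Fibre dimensions of a composition
-/

set_option autoImplicit false
set_option linter.all false

universe u

open CategoryTheory AlgebraicGeometry IsLocalRing
open scoped TensorProduct

namespace Groth.Agent.FlatLocalDepth

theorem ringKrullDim_quotient_le_add (A B C : Type u) [CommRing A] [CommRing B] [CommRing C]
    [IsLocalRing A] [IsLocalRing B] [IsLocalRing C] [IsNoetherianRing B] [IsNoetherianRing C]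
    [Algebra A B] [Algebra B C] [Algebra A C]
    [IsScalarTower A B C] [IsLocalHom (algebraMap A B)] [IsLocalHom (algebraMap B C)] :
    ringKrullDim (C ⧸ (maximalIdeal A).map (algebraMap A C)) ≤
      ringKrullDim (B ⧸ (maximalIdeal A).map (algebraMap A B)) +
        ringKrullDim (C ⧸ (maximalIdeal B).map (algebraMap B C)) := by
  let I := (maximalIdeal A).map (algebraMap A B)
  let J := I.map (algebraMap B C)
  have hJ : (maximalIdeal A).map (algebraMap A C) = J := by
    rw [IsScalarTower.algebraMap_eq A B C, ← Ideal.map_map]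
  have hI : I ≤ maximalIdeal B := ((local_hom_TFAE (algebraMap A B)).out 0 2 rfl rfl).1 inferInstance
  have hIC : J ≤ maximalIdeal C :=
    (Ideal.map_mono hI).trans (((local_hom_TFAE (algebraMap B C)).out 0 2 rfl rfl).1 inferInstance)
  have : Nontrivial (B ⧸ I) :=
    Ideal.Quotient.nontrivial_iff.2 (ne_top_of_le_ne_top (maximalIdeal.isMaximal B).ne_top hI)
  have : Nontrivial (C ⧸ J) :=
    Ideal.Quotient.nontrivial_iff.2 (ne_top_of_le_ne_top (maximalIdeal.isMaximal C).ne_top hIC)
  have : IsLocalRing (B ⧸ I) := IsLocalRing.of_surjective' (Ideal.Quotient.mk I) Ideal.Quotient.mk_surjective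
  have : IsLocalRing (C ⧸ J) := IsLocalRing.of_surjective' (Ideal.Quotient.mk J) Ideal.Quotient.mk_surjective
  letI : Algebra (B ⧸ I) (C ⧸ J) :=
    (Ideal.quotientMap J (algebraMap B C) Ideal.le_comap_map).toAlgebra
  have : IsScalarTower B (B ⧸ I) (C ⧸ J) := IsScalarTower.of_algebraMap_eq fun b => rfl
  have : IsLocalHom (algebraMap (B ⧸ I) (C ⧸ J)) := ⟨fun x hx => by
    obtain ⟨b, rfl⟩ := Ideal.Quotient.mk_surjective x
    refine IsUnit.map _ (of_not_not fun hb => ?_)
    have hb' : algebraMap B C b ∈ maximalIdeal C :=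
      (((local_hom_TFAE (algebraMap B C)).out 0 2 rfl rfl).1 inferInstance) (Ideal.mem_map_of_mem _ hb)
    have hm := Ideal.mem_map_of_mem (Ideal.Quotient.mk J) hb'
    have : IsLocalHom (Ideal.Quotient.mk J) := IsLocalHom.of_surjective _ Ideal.Quotient.mk_surjective
    rw [IsLocalRing.map_maximalIdeal_of_surjective _ Ideal.Quotient.mk_surjective] at hm
    exact (IsLocalRing.mem_maximalIdeal _).1 hm hx⟩
  have hlo : (maximalIdeal (C ⧸ J)).LiesOver (maximalIdeal (B ⧸ I)) :=
    ⟨((local_hom_TFAE (algebraMap (B ⧸ I) (C ⧸ J))).out 0 4 rfl rfl |>.1 inferInstance).symm⟩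
  have hK : J ≤ (maximalIdeal B).map (algebraMap B C) := Ideal.map_mono hI
  have : IsLocalHom (Ideal.Quotient.mk I) := IsLocalHom.of_surjective _ Ideal.Quotient.mk_surjective
  have heq : (maximalIdeal (B ⧸ I)).map (algebraMap (B ⧸ I) (C ⧸ J)) =
      ((maximalIdeal B).map (algebraMap B C)).map (Ideal.Quotient.mk J) := by
    rw [← IsLocalRing.map_maximalIdeal_of_surjective _ (Ideal.Quotient.mk_surjective (I := I)),
      Ideal.map_map, Ideal.map_map]
    rfl
  rw [hJ, ← ringKrullDim_eq_of_ringEquiv ((Ideal.quotEquivOfEq heq).trans (DoubleQuot.quotQuotEquivQuotOfLE hK))]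
  have hne : (maximalIdeal (B ⧸ I)).map (algebraMap (B ⧸ I) (C ⧸ J)) ≠ ⊤ :=
    ne_top_of_le_ne_top (maximalIdeal.isMaximal (C ⧸ J)).ne_top
      (((local_hom_TFAE (algebraMap (B ⧸ I) (C ⧸ J))).out 0 2 rfl rfl).1 inferInstance)
  have : Nontrivial ((C ⧸ J) ⧸ (maximalIdeal (B ⧸ I)).map (algebraMap (B ⧸ I) (C ⧸ J))) :=
    Ideal.Quotient.nontrivial_iff.2 hne
  have : IsLocalRing ((C ⧸ J) ⧸ (maximalIdeal (B ⧸ I)).map (algebraMap (B ⧸ I) (C ⧸ J))) :=
    IsLocalRing.of_surjective' (Ideal.Quotient.mk _) Ideal.Quotient.mk_surjective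
  rw [← IsLocalRing.maximalIdeal_height_eq_ringKrullDim, ← IsLocalRing.maximalIdeal_height_eq_ringKrullDim,
    ← IsLocalRing.maximalIdeal_height_eq_ringKrullDim, ← WithBot.coe_add,
    ← IsLocalRing.map_maximalIdeal_of_surjective
      (Ideal.Quotient.mk ((maximalIdeal (B ⧸ I)).map (algebraMap (B ⧸ I) (C ⧸ J)))) Ideal.Quotient.mk_surjective]
  exact WithBot.coe_le_coe.2 (Ideal.height_le_height_add_of_liesOver (maximalIdeal (B ⧸ I)) (P := maximalIdeal (C ⧸ J)))

/-- A surjective morphism does not decrease the codimension below that of some point over. -/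
theorem exists_fiberStalk_comp_le {X X' S : Scheme.{u}} [IsLocallyNoetherian X] [IsLocallyNoetherian X']
    (f : X ⟶ S) (g : X' ⟶ X) [Surjective g] (y : X) :
    ∃ y' : X', g y' = y ∧ ringKrullDim ↑(CInt.fiberStalk (g ≫ f) y') ≤ ringKrullDim ↑(CInt.fiberStalk f y) := by
  obtain ⟨y₀, hy₀⟩ := g.surjective y
  subst hy₀
  let F := g.fiber (g y₀)
  haveI : Nonempty F := ⟨g.asFiber y₀⟩
  let Z := irreducibleComponent (g.asFiber y₀)
  obtain ⟨η, hη⟩ := QuasiSober.sober (isIrreducible_irreducibleComponent (x := g.asFiber y₀)) isClosed_irreducibleComponent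
  have hmax : IsMax η := fun z hz => by
    have hz' : z ⤳ η := hz
    have h1 : Z ⊆ closure {z} := by
      show irreducibleComponent _ ⊆ _
      rw [← hη]
      exact specializes_iff_closure_subset.1 hz'
    have h2 : closure {z} ⊆ Z :=
      irreducibleComponent_mem_irreducibleComponents (g.asFiber y₀) |>.2 isIrreducible_singleton.closure h1
    show η ⤳ z
    exact specializes_iff_closure_subset.2 (h2.trans hη.symm.subset)
  have h0 : ringKrullDim (F.presheaf.stalk η) = 0 := by
    rw [ringKrullDim_stalk_eq_coheight, Order.coheight_eq_zero.2 hmax]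
    rfl
  refine ⟨g.fiberι (g y₀) η, ?_, ?_⟩
  · exact (g.range_fiberι (g y₀)).subset ⟨η, rfl⟩
  · have hw : g (g.fiberι (g y₀) η) = g y₀ := (g.range_fiberι (g y₀)).subset ⟨η, rfl⟩
    obtain ⟨y', hy'⟩ : ∃ y', y' = g.fiberι (g y₀) η := ⟨_, rfl⟩
    rw [← hy'] at hw ⊢
    rw [← hw]
    letI := (f.stalkMap (g y')).hom.toAlgebra
    letI := (g.stalkMap y').hom.toAlgebra
    letI : Algebra (S.presheaf.stalk (f (g y'))) (X'.presheaf.stalk y') := ((g ≫ f).stalkMap y').hom.toAlgebra
    have : IsScalarTower (S.presheaf.stalk (f (g y'))) (X.presheaf.stalk (g y')) (X'.presheaf.stalk y') :=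
      IsScalarTower.of_algebraMap_eq fun a => congr($(Scheme.Hom.stalkMap_comp g f y').hom a)
    have : IsLocalHom (algebraMap (S.presheaf.stalk (f (g y'))) (X.presheaf.stalk (g y'))) :=
      inferInstanceAs (IsLocalHom (f.stalkMap (g y')).hom)
    have : IsLocalHom (algebraMap (X.presheaf.stalk (g y')) (X'.presheaf.stalk y')) :=
      inferInstanceAs (IsLocalHom (g.stalkMap y').hom)
    obtain ⟨e₁⟩ := nonempty_asFiber_stalk_equiv f (g y')
    obtain ⟨e₂⟩ := nonempty_asFiber_stalk_equiv (g ≫ f) y'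
    obtain ⟨e₃⟩ := nonempty_fibre_stalk_equiv g (g y₀) η y' hy'.symm
    rw [← ringKrullDim_eq_of_ringEquiv e₁, ← ringKrullDim_eq_of_ringEquiv e₂]
    refine (ringKrullDim_quotient_le_add (S.presheaf.stalk (f (g y'))) (X.presheaf.stalk (g y'))
      (X'.presheaf.stalk y')).trans ?_
    rw [show ringKrullDim (X'.presheaf.stalk y' ⧸ (maximalIdeal (X.presheaf.stalk (g y'))).map
      (algebraMap (X.presheaf.stalk (g y')) (X'.presheaf.stalk y'))) = 0 from
      (ringKrullDim_eq_of_ringEquiv e₃).trans h0, add_zero]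
    exact le_rfl

end Groth.Agent.FlatLocalDepth
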